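import Mathlib
import Cfsg.Prelude.Def_Characters
import Cfsg.Agent.Characters.Core
import Cfsg.Agent.Characters.Linear
import Cfsg.Agent.Characters.CCBasic
import Cfsg.Agent.CharactersDeep.Extraspecial

/-!
# Characters lying over a linear character of a central subgroup

* `Lies N c f`: `f (x n) = f x * c n`.
* `exists_hom`: an irreducible character lies over a homomorphism of a central subgroup.
* `lies_iff_classInner`: an irreducible character lies over the linear character `c` of the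
  central subgroup `N` iff `classInner χ|N c ≠ 0`.
* `eq_zero_of_comm`: vanishing at elements with a nontrivial commutator outside `ker c`.
* `card_over`: the number of irreducible characters over `c` is the dimension of the space
  `space N c` of class functions over `c`.
* `card_good`: that dimension is the number of classes of `G ⧸ N` of good elements.
-/

set_option autoImplicit false
open scoped ComplexConjugate
open Cfsg

namespace Cfsg.Agent.H622.Over

universe u

variable {G : Type u} [Group G]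

/-- `f` is a function over the linear character `c` of the subgroup `N`:
`f (x n) = f x * c n`. -/
def Lies (N : Subgroup G) (c : N →* ℂˣ) (f : G → ℂ) : Prop :=
  ∀ (x : G) (n : N), f (x * n) = f x * (c n : ℂ)

theorem lies_def {N : Subgroup G} {c : N →* ℂˣ} {f : G → ℂ} :
    Lies N c f ↔ ∀ (x : G) (n : N), f (x * n) = f x * (c n : ℂ) := Iff.rfl

/-- An irreducible character lies over a homomorphism on a central subgroup. -/
theorem exists_hom {N : Subgroup G} (hN : N ≤ Subgroup.center G) {χ : G → ℂ}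
    (hχ : IsIrrCharacter G χ) : ∃ c : N →* ℂˣ, Lies N c χ := by
  obtain ⟨c, hc, -⟩ := CharactersDeep.Extraspecial.exists_central_hom hχ
  exact ⟨c.comp (Subgroup.inclusion hN), fun x n => hc x (Subgroup.inclusion hN n)⟩

/-- Irreducible characters of central subgroups are homomorphisms. -/
theorem exists_hom_of_central {N : Subgroup G} (hN : N ≤ Subgroup.center G) {ψ : N → ℂ}
    (hψ : IsIrrCharacter N ψ) : ∃ c : N →* ℂˣ, ψ = fun n => (c n : ℂ) := by
  have hcomm : ∀ a b : N, a * b = b * a := by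
    intro a b
    exact Subtype.ext (Subgroup.mem_center_iff.1 (hN b.2) a)
  exact Characters.Linear.exists_hom_of_isIrrCharacter hψ
    (Characters.CCBasic.irr_apply_one_of_comm hcomm hψ)

theorem conj_hom {N : Subgroup G} [Finite G] (c : N →* ℂˣ) (n : N) :
    conj (c n : ℂ) = (c n⁻¹ : ℂ) := by
  have h1 : ‖(c n : ℂ)‖ = 1 := Characters.Linear.norm_hom_apply c n
  rw [map_inv, Units.val_inv_eq_inv_val, Complex.inv_def, Complex.normSq_eq_norm_sq, h1]
  simp

theorem hom_mul_conj {N : Subgroup G} [Finite G] (c : N →* ℂˣ) (n : N) :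
    (c n : ℂ) * conj (c n : ℂ) = 1 := by
  rw [conj_hom, ← Units.val_mul, ← map_mul, mul_inv_cancel, map_one, Units.val_one]

/-- Functions over different linear characters are orthogonal. -/
theorem classInner_eq_zero [Fintype G] {N : Subgroup G} {c d : N →* ℂˣ} {f h : G → ℂ}
    (hf : Lies N c f) (hh : Lies N d h) (hcd : c ≠ d) : classInner f h = 0 := by
  obtain ⟨n, hn⟩ : ∃ n : N, c n ≠ d n := by
    by_contra hcon
    push Not at hcon
    exact hcd (MonoidHom.ext hcon)
  have h1 : classInner f h = ((c n : ℂ) * conj (d n : ℂ)) * classInner f h := by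
    have hs : ∑ x : G, f x * conj (h x) =
        ((c n : ℂ) * conj (d n : ℂ)) * ∑ x : G, f x * conj (h x) := by
      refine (Equiv.sum_comp (Equiv.mulRight (n : G)) (fun x => f x * conj (h x))).symm.trans ?_
      rw [Finset.mul_sum]
      refine Finset.sum_congr rfl fun x _ => ?_
      simp only [Equiv.coe_mulRight]
      rw [hf x n, hh x n, map_mul]
      ring
    rw [Characters.Core.classInner_def]
    conv_lhs => rw [hs]
    ring
  have h2 : (c n : ℂ) * conj (d n : ℂ) ≠ 1 := by
    intro h3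
    apply hn
    rw [conj_hom, map_inv, ← Units.val_mul] at h3
    have h4 : c n * (d n)⁻¹ = 1 := Units.ext h3
    exact mul_inv_eq_one.1 h4
  by_contra h0
  apply h2
  have h3 : (1 - (c n : ℂ) * conj (d n : ℂ)) * classInner f h = 0 := by
    rw [sub_mul, one_mul, ← h1, sub_self]
  rcases mul_eq_zero.1 h3 with h4 | h4
  · exact (sub_eq_zero.1 h4).symm
  · exact absurd h4 h0

/-- An irreducible character lies over `c` iff its restriction contains `c`. -/
theorem lies_iff_classInner [Fintype G] {N : Subgroup G} [Fintype N]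
    (hN : N ≤ Subgroup.center G) (c : N →* ℂˣ) {χ : G → ℂ} (hχ : IsIrrCharacter G χ) :
    Lies N c χ ↔ classInner (fun n : N => χ n) (fun n : N => (c n : ℂ)) ≠ 0 := by
  have key : ∀ d : N →* ℂˣ, Lies N d χ → classInner (fun n : N => χ n) (fun n : N => (c n : ℂ)) =
      χ 1 * classInner (fun n : N => (d n : ℂ)) (fun n : N => (c n : ℂ)) := by
    intro d hd
    have hs : ∑ n : N, χ n * conj (c n : ℂ) = χ 1 * ∑ n : N, (d n : ℂ) * conj (c n : ℂ) := by
      rw [Finset.mul_sum]
      refine Finset.sum_congr rfl fun n _ => ?_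
      have := hd 1 n
      rw [one_mul] at this
      rw [this]; ring
    rw [Characters.Core.classInner_def, Characters.Core.classInner_def, hs]
    ring
  constructor
  · intro h
    rw [key c h, Characters.Core.classInner_irr_self (Characters.Linear.isIrrCharacter_hom c), mul_one]
    exact Characters.Core.isIrr_apply_one_ne_zero hχ
  · intro h
    obtain ⟨d, hd⟩ := exists_hom hN hχ
    rw [key d hd] at h
    have h1 := right_ne_zero_of_mul h
    have h2 : (fun n : N => (d n : ℂ)) = (fun n : N => (c n : ℂ)) := by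
      by_contra h3
      exact h1 (Characters.Core.classInner_irr_ne (Characters.Linear.isIrrCharacter_hom d)
        (Characters.Linear.isIrrCharacter_hom c) h3)
    have h3 : d = c := by
      ext n
      exact congrFun h2 n
    rw [← h3]; exact hd

/-- A class function over `c` vanishes at `g` if some commutator of `g` lies in `N` but not in
the kernel of `c`. -/
theorem eq_zero_of_comm {N : Subgroup G} {c : N →* ℂˣ} {f : G → ℂ}
    (hcl : IsClassFunction G f) (hf : Lies N c f) {g x : G} (hx : x⁻¹ * g⁻¹ * x * g ∈ N)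
    (hne : c ⟨x⁻¹ * g⁻¹ * x * g, hx⟩ ≠ 1) : f g = 0 := by
  have h1 : f (x⁻¹ * g * x) = f g := by
    have := hcl g x⁻¹
    rwa [inv_inv] at this
  have h2 : f g = f (x⁻¹ * g * x) * (c ⟨x⁻¹ * g⁻¹ * x * g, hx⟩ : ℂ) := by
    rw [← hf]
    congr 1
    simp only
    group
  rw [h1] at h2
  by_contra h0
  apply hne
  apply Units.ext
  have h3 : f g * ((c ⟨x⁻¹ * g⁻¹ * x * g, hx⟩ : ℂ) - 1) = 0 := by
    rw [mul_sub, ← h2, mul_one, sub_self]
  rcases mul_eq_zero.1 h3 with h4 | h4
  · exact absurd h4 h0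
  · rw [sub_eq_zero.1 h4]; rfl

/-- The space of class functions over `c`. -/
def space (N : Subgroup G) (c : N →* ℂˣ) : Submodule ℂ (G → ℂ) where
  carrier := {f | IsClassFunction G f ∧ Lies N c f}
  add_mem' := by
    rintro a b ⟨ha, ha'⟩ ⟨hb, hb'⟩
    refine ⟨fun g h => ?_, fun x n => ?_⟩
    · simp only [Pi.add_apply, ha g h, hb g h]
    · simp only [Pi.add_apply, ha' x n, hb' x n]; ring
  zero_mem' := ⟨fun g h => rfl, fun x n => by simp⟩
  smul_mem' := by
    rintro r a ⟨ha, ha'⟩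
    refine ⟨fun g h => ?_, fun x n => ?_⟩
    · simp only [Pi.smul_apply, ha g h]
    · simp only [Pi.smul_apply, ha' x n, smul_eq_mul]; ring

theorem mem_space {N : Subgroup G} {c : N →* ℂˣ} {f : G → ℂ} :
    f ∈ space N c ↔ IsClassFunction G f ∧ Lies N c f := Iff.rfl

/-- The irreducible characters over `c` span the class functions over `c`. -/
theorem span_over [Finite G] {N : Subgroup G} (hN : N ≤ Subgroup.center G) (c : N →* ℂˣ) :
    Submodule.span ℂ (Set.range (fun χ : {χ : IrrCharacter G // Lies N c (χ : G → ℂ)} =>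
      ((χ : IrrCharacter G) : G → ℂ))) = space N c := by
  classical
  have := Fintype.ofFinite G
  have : Finite (IrrCharacter G) := Characters.Core.finite_irr
  have := Fintype.ofFinite (IrrCharacter G)
  apply le_antisymm
  · rw [Submodule.span_le]
    rintro _ ⟨χ, rfl⟩
    exact ⟨Characters.Core.isIrr_isClassFunction χ.1.2, χ.2⟩
  · intro f hf
    obtain ⟨hcl, hl⟩ := mem_space.1 hf
    rw [Characters.Core.classFunction_eq_sum hcl]
    refine Submodule.sum_mem _ fun χ _ => ?_
    obtain ⟨d, hd⟩ := exists_hom hN χ.2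
    by_cases hcd : c = d
    · subst hcd
      exact Submodule.smul_mem _ _ (Submodule.subset_span ⟨⟨χ, hd⟩, rfl⟩)
    · rw [classInner_eq_zero hl hd hcd, zero_smul]
      exact Submodule.zero_mem _

/-- The number of irreducible characters over `c`. -/
theorem card_over [Finite G] {N : Subgroup G} (hN : N ≤ Subgroup.center G) (c : N →* ℂˣ) :
    Nat.card {χ : IrrCharacter G // Lies N c (χ : G → ℂ)} = Module.finrank ℂ (space N c) := by
  classical
  have : Finite (IrrCharacter G) := Characters.Core.finite_irr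
  have := Fintype.ofFinite {χ : IrrCharacter G // Lies N c (χ : G → ℂ)}
  have hli0 : LinearIndependent ℂ (fun χ : IrrCharacter G => (χ : G → ℂ)) :=
    Characters.Core.irr_linearIndependent
  have hli : LinearIndependent ℂ (fun χ : {χ : IrrCharacter G // Lies N c (χ : G → ℂ)} =>
      ((χ : IrrCharacter G) : G → ℂ)) :=
    LinearIndependent.comp hli0
      (fun χ : {χ : IrrCharacter G // Lies N c (χ : G → ℂ)} => (χ : IrrCharacter G))
      Subtype.val_injective
  rw [← span_over hN c, finrank_span_eq_card hli, Nat.card_eq_fintype_card]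

/-- Good elements: all commutators in `N` lie in the kernel of `c`. -/
def Good (N : Subgroup G) (c : N →* ℂˣ) (g : G) : Prop :=
  ∀ (x : G) (hx : x⁻¹ * g⁻¹ * x * g ∈ N), c ⟨x⁻¹ * g⁻¹ * x * g, hx⟩ = 1

theorem eq_zero_of_not_good {N : Subgroup G} {c : N →* ℂˣ} {f : G → ℂ}
    (hf : f ∈ space N c) {g : G} (hg : ¬ Good N c g) : f g = 0 := by
  unfold Good at hg
  push Not at hg
  obtain ⟨x, hx, hne⟩ := hg
  exact eq_zero_of_comm hf.1 hf.2 hx hne

open Classical in
/-- The class function over `c` supported on the classes of `g N`. -/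
noncomputable def bump [Finite G] (N : Subgroup G) (c : N →* ℂˣ) (g : G) : G → ℂ :=
  fun x => ∑ᶠ y : G, if h : g⁻¹ * (y⁻¹ * x * y) ∈ N then (c ⟨_, h⟩ : ℂ) else 0

theorem bump_mem [Finite G] {N : Subgroup G} (hN : N ≤ Subgroup.center G) (c : N →* ℂˣ)
    (g : G) : bump N c g ∈ space N c := by
  classical
  have := Fintype.ofFinite G
  refine ⟨fun x h => ?_, fun x n => ?_⟩
  · unfold bump
    rw [finsum_eq_sum_of_fintype, finsum_eq_sum_of_fintype]
    refine Fintype.sum_equiv (Equiv.mulLeft h⁻¹) _ _ fun y => ?_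
    change (if hm : g⁻¹ * (y⁻¹ * (h * x * h⁻¹) * y) ∈ N then (c ⟨_, hm⟩ : ℂ) else 0) =
      (if hm : g⁻¹ * ((h⁻¹ * y)⁻¹ * x * (h⁻¹ * y)) ∈ N then (c ⟨_, hm⟩ : ℂ) else 0)
    have e : g⁻¹ * (y⁻¹ * (h * x * h⁻¹) * y) = g⁻¹ * ((h⁻¹ * y)⁻¹ * x * (h⁻¹ * y)) := by group
    by_cases hm : g⁻¹ * (y⁻¹ * (h * x * h⁻¹) * y) ∈ N
    · have hm' : g⁻¹ * ((h⁻¹ * y)⁻¹ * x * (h⁻¹ * y)) ∈ N := by rwa [← e]
      rw [dif_pos hm, dif_pos hm']
      congr 3
    · have hm' : g⁻¹ * ((h⁻¹ * y)⁻¹ * x * (h⁻¹ * y)) ∉ N := by rwa [← e]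
      rw [dif_neg hm, dif_neg hm']
  · unfold bump
    rw [finsum_eq_sum_of_fintype, finsum_eq_sum_of_fintype, Finset.sum_mul]
    refine Finset.sum_congr rfl fun y _ => ?_
    have hc : ∀ z : G, (n : G) * z = z * n := fun z =>
      (Subgroup.mem_center_iff.1 (hN n.2) z).symm
    have h1 : g⁻¹ * (y⁻¹ * (x * n) * y) = g⁻¹ * (y⁻¹ * x * y) * n := by
      calc g⁻¹ * (y⁻¹ * (x * n) * y) = g⁻¹ * y⁻¹ * x * (n * y) := by group
        _ = g⁻¹ * y⁻¹ * x * (y * n) := by rw [hc]
        _ = _ := by group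
    by_cases h : g⁻¹ * (y⁻¹ * x * y) ∈ N
    · have h' : g⁻¹ * (y⁻¹ * (x * n) * y) ∈ N := by rw [h1]; exact N.mul_mem h n.2
      rw [dif_pos h', dif_pos h, ← Units.val_mul, ← map_mul]
      congr 2
      exact Subtype.ext h1
    · have h' : g⁻¹ * (y⁻¹ * (x * n) * y) ∉ N := by
        rw [h1]
        intro h2
        exact h ((Subgroup.mul_mem_cancel_right N n.2).1 h2)
      rw [dif_neg h', dif_neg h, zero_mul]

theorem bump_self_ne_zero [Finite G] {N : Subgroup G} (c : N →* ℂˣ)
    {g : G} (hg : Good N c g) : bump N c g g ≠ 0 := by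
  classical
  have := Fintype.ofFinite G
  have h : bump N c g g = ∑ y : G, if g⁻¹ * (y⁻¹ * g * y) ∈ N then (1 : ℂ) else 0 := by
    unfold bump
    rw [finsum_eq_sum_of_fintype]
    refine Finset.sum_congr rfl fun y _ => ?_
    by_cases h : g⁻¹ * (y⁻¹ * g * y) ∈ N
    · rw [dif_pos h, if_pos h]
      have h2 : y⁻¹ * g⁻¹ * y * g ∈ N := by
        have := N.inv_mem h
        have e : (g⁻¹ * (y⁻¹ * g * y))⁻¹ = y⁻¹ * g⁻¹ * y * g := by group
        rwa [e] at this
      have h3 := hg y h2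
      have h4 : (⟨g⁻¹ * (y⁻¹ * g * y), h⟩ : N) = (⟨y⁻¹ * g⁻¹ * y * g, h2⟩ : N)⁻¹ := by
        apply Subtype.ext
        simp only [InvMemClass.coe_inv]
        group
      rw [h4, map_inv, h3, inv_one, Units.val_one]
    · rw [dif_neg h, if_neg h]
  rw [h, ← Finset.sum_filter, Finset.sum_const, nsmul_eq_mul, mul_one]
  have : (1 : G) ∈ Finset.univ.filter (fun y : G => g⁻¹ * (y⁻¹ * g * y) ∈ N) := by
    simp [N.one_mem]
  exact_mod_cast (Finset.card_pos.2 ⟨1, this⟩).ne'

theorem bump_eq_zero [Finite G] {N : Subgroup G} [N.Normal] (c : N →* ℂˣ)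
    {g x : G} (hg : ConjClasses.mk (g : G ⧸ N) ≠ ConjClasses.mk (x : G ⧸ N)) :
    bump N c g x = 0 := by
  classical
  unfold bump
  have : ∀ y : G, (if h : g⁻¹ * (y⁻¹ * x * y) ∈ N then (c ⟨_, h⟩ : ℂ) else 0) = 0 := by
    intro y
    rw [dif_neg]
    intro h
    apply hg
    have h1 : (g : G ⧸ N) = ((y⁻¹ * x * y : G) : G ⧸ N) := QuotientGroup.eq.2 h
    rw [h1, ConjClasses.mk_eq_mk_iff_isConj, isConj_comm, isConj_iff]
    refine ⟨((y⁻¹ : G) : G ⧸ N), ?_⟩
    simp
  simp [this]

/-- The value of a class function over `c` at a good element determines it on the class modulo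
`N`. -/
theorem apply_eq_zero_of_conj {N : Subgroup G} [N.Normal] {c : N →* ℂˣ} {f : G → ℂ}
    (hf : f ∈ space N c) {g x : G} (hgx : ConjClasses.mk (g : G ⧸ N) = ConjClasses.mk (x : G ⧸ N))
    (h0 : f g = 0) : f x = 0 := by
  rw [ConjClasses.mk_eq_mk_iff_isConj, isConj_iff] at hgx
  obtain ⟨y, hy⟩ := hgx
  induction y using QuotientGroup.induction_on with
  | H y =>
  have h1 : ((y * g * y⁻¹ : G) : G ⧸ N) = (x : G ⧸ N) := by
    simpa using hy
  rw [QuotientGroup.eq] at h1
  have h2 : x = (y * g * y⁻¹) * ((⟨_, h1⟩ : N) : G) := (mul_inv_cancel_left _ _).symm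
  rw [h2, hf.2, hf.1, h0, zero_mul]

theorem good_conj {N : Subgroup G} [N.Normal] (hN : N ≤ Subgroup.center G) {c : N →* ℂˣ}
    {g x : G} (hgx : ConjClasses.mk (g : G ⧸ N) = ConjClasses.mk (x : G ⧸ N))
    (hg : Good N c g) : Good N c x := by
  rw [ConjClasses.mk_eq_mk_iff_isConj, isConj_iff] at hgx
  obtain ⟨y, hy⟩ := hgx
  induction y using QuotientGroup.induction_on with
  | H y =>
  have h1 : ((y * g * y⁻¹ : G) : G ⧸ N) = (x : G ⧸ N) := by
    simpa using hy
  rw [QuotientGroup.eq] at h1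
  intro z hz
  obtain ⟨n, hn⟩ : ∃ n : N, x = (y * g * y⁻¹) * n := ⟨⟨_, h1⟩, (mul_inv_cancel_left _ _).symm⟩
  have hc : ∀ z : G, (n : G) * z = z * n := fun z =>
    (Subgroup.mem_center_iff.1 (hN n.2) z).symm
  have hc' : ∀ z : G, (n : G)⁻¹ * z = z * (n : G)⁻¹ := fun z =>
    (Subgroup.mem_center_iff.1 (N.inv_mem n.2 |> fun h => hN h) z).symm
  have e1 : z⁻¹ * x⁻¹ * z * x = z⁻¹ * (y * g * y⁻¹)⁻¹ * z * (y * g * y⁻¹) := by
    rw [hn, mul_inv_rev]
    calc z⁻¹ * ((n : G)⁻¹ * (y * g * y⁻¹)⁻¹) * z * (y * g * y⁻¹ * n)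
        = z⁻¹ * ((n : G)⁻¹ * ((y * g * y⁻¹)⁻¹ * z * (y * g * y⁻¹))) * n := by group
      _ = z⁻¹ * (((y * g * y⁻¹)⁻¹ * z * (y * g * y⁻¹)) * (n : G)⁻¹) * n := by rw [hc']
      _ = _ := by group
  have e2 : z⁻¹ * (y * g * y⁻¹)⁻¹ * z * (y * g * y⁻¹) =
      y * ((y⁻¹ * z * y)⁻¹ * g⁻¹ * (y⁻¹ * z * y) * g) * y⁻¹ := by group
  have h3 : (y⁻¹ * z * y)⁻¹ * g⁻¹ * (y⁻¹ * z * y) * g ∈ N := by
    have h4 := (inferInstance : N.Normal).conj_mem _ hz y⁻¹
    rw [e1, e2] at h4
    have e3 : y⁻¹ * (y * ((y⁻¹ * z * y)⁻¹ * g⁻¹ * (y⁻¹ * z * y) * g) * y⁻¹) * y⁻¹⁻¹ =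
      (y⁻¹ * z * y)⁻¹ * g⁻¹ * (y⁻¹ * z * y) * g := by group
    rwa [e3] at h4
  have h5 := hg _ h3
  have h6 : (⟨z⁻¹ * x⁻¹ * z * x, hz⟩ : N) = ⟨_, h3⟩ := by
    apply Subtype.ext
    simp only
    rw [e1, e2]
    have h7 := (Subgroup.mem_center_iff.1 (hN h3) y)
    rw [h7]
    group
  rw [h6]
  exact h5

/-- **The number of irreducible characters over a linear character of a central subgroup** is
the number of classes of good elements modulo the subgroup. -/
theorem card_good [Finite G] {N : Subgroup G} [N.Normal] (hN : N ≤ Subgroup.center G)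
    (c : N →* ℂˣ) :
    Module.finrank ℂ (space N c) =
      Nat.card {C : ConjClasses (G ⧸ N) // ∃ g : G, ConjClasses.mk (g : G ⧸ N) = C ∧ Good N c g} := by
  classical
  have : Finite (ConjClasses (G ⧸ N)) :=
    Finite.of_surjective _ (ConjClasses.mk_surjective (α := G ⧸ N))
  have := Fintype.ofFinite
    {C : ConjClasses (G ⧸ N) // ∃ g : G, ConjClasses.mk (g : G ⧸ N) = C ∧ Good N c g}
  choose r hr1 hr2 using fun C : {C : ConjClasses (G ⧸ N) //
    ∃ g : G, ConjClasses.mk (g : G ⧸ N) = C ∧ Good N c g} => C.2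
  let ev : space N c →ₗ[ℂ] ({C : ConjClasses (G ⧸ N) //
      ∃ g : G, ConjClasses.mk (g : G ⧸ N) = C ∧ Good N c g} → ℂ) :=
    { toFun := fun f C => (f : G → ℂ) (r C)
      map_add' := fun _ _ => rfl
      map_smul' := fun _ _ => rfl }
  have hinj : Function.Injective ev := by
    rw [← LinearMap.ker_eq_bot, LinearMap.ker_eq_bot']
    intro f hf
    apply Subtype.ext
    funext x
    by_cases hx : Good N c x
    · have h1 := congrFun hf ⟨ConjClasses.mk (x : G ⧸ N), x, rfl, hx⟩
      exact apply_eq_zero_of_conj f.2 (hr1 ⟨ConjClasses.mk (x : G ⧸ N), x, rfl, hx⟩) h1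
    · exact eq_zero_of_not_good f.2 hx
  have hsurj : Function.Surjective ev := by
    intro v
    refine ⟨∑ C, (v C / bump N c (r C) (r C)) • ⟨bump N c (r C), bump_mem hN c (r C)⟩, ?_⟩
    funext D
    rw [map_sum, Finset.sum_apply, Finset.sum_eq_single D]
    · change (v D / bump N c (r D) (r D)) * bump N c (r D) (r D) = v D
      rw [div_mul_cancel₀ _ (bump_self_ne_zero c (hr2 D))]
    · intro C _ hCD
      change (v C / bump N c (r C) (r C)) * bump N c (r C) (r D) = 0
      rw [bump_eq_zero (g := r C) (x := r D) c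
        (by rw [hr1 C, hr1 D]; exact fun h => hCD (Subtype.ext h)), mul_zero]
    · intro h
      exact absurd (Finset.mem_univ D) h
  rw [(LinearEquiv.ofBijective ev ⟨hinj, hsurj⟩).finrank_eq, Module.finrank_fintype_fun_eq_card,
    Nat.card_eq_fintype_card]

end Cfsg.Agent.H622.Over
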