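import Mathlib
import Cfsg.Prelude.Def_Characters
import Cfsg.Agent.Characters.Core
import Cfsg.Agent.Characters.Clifford

/-!
# Full ramification: degrees

`j : A →* K`, `θ` an irreducible character of `A`.

* `OverMul j θ ψ`: `ψ` is an irreducible character of `K`, and `ψ ∘ j` is a multiple of `θ`.
* `FullRam j θ X`: moreover `X 1 ^ 2 * |A| = |K| * θ 1 ^ 2`.
* `FullRam.eq_zero`: such a character vanishes outside the range of `j`.
* `exists_mult`: if `f : K →* L` is injective, `X` fully ramified for `f.comp j` and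
  `OverMul j θ ψ`, `X 1 = x * θ 1`, `ψ 1 = v * θ 1`, then `m * |K| = x * v * |A|` for the (positive)
  multiplicity `m` of `ψ` in `X ∘ f`.
* `exists_conj`: if the range of `f` is normal, the characters of `K` over `θ` are conjugate in `L`.
* `card_mul`: if all characters of `K` over `θ` have the same degree `v * θ 1` then their
  number `J` satisfies `J * v ^ 2 * |A| = |K|`.
-/

set_option autoImplicit false
open scoped ComplexConjugate
open Cfsg

namespace Cfsg.Agent.H622.FR

open Cfsg.Agent.Characters.Core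

universe u

variable {A K L : Type u} [Group A] [Group K] [Group L]

/-- `ψ` is an irreducible character of `K` whose restriction along `j` is a multiple of `θ`. -/
structure OverMul (j : A →* K) (θ : A → ℂ) (ψ : K → ℂ) : Prop where
  irr : IsIrrCharacter K ψ
  lies : ∀ a, ψ (j a) * θ 1 = ψ 1 * θ a

/-- `X` is fully ramified over `θ`. -/
structure FullRam (j : A →* K) (θ : A → ℂ) (X : K → ℂ) : Prop extends OverMul j θ X where
  deg : X 1 ^ 2 * (Nat.card A : ℂ) = (Nat.card K : ℂ) * θ 1 ^ 2

section basic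

variable {j : A →* K} {θ : A → ℂ} {ψ : K → ℂ}

theorem OverMul.apply (h : OverMul j θ ψ) (hθ : IsIrrCharacter A θ) {v : ℕ}
    (hv : ψ 1 = v * θ 1) (a : A) : ψ (j a) = v * θ a := by
  have h0 := isIrr_apply_one_ne_zero hθ
  have h1 := h.lies a
  rw [hv] at h1
  apply mul_right_cancel₀ h0
  rw [h1]; ring

/-- The degree is a multiple of the degree of `θ`. -/
theorem OverMul.exists_deg [Finite A] (h : OverMul j θ ψ) (hθ : IsIrrCharacter A θ) :
    ∃ v : ℕ, 0 < v ∧ ψ 1 = v * θ 1 := by
  classical
  have := Fintype.ofFinite A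
  have h0 := isIrr_apply_one_ne_zero hθ
  obtain ⟨v, hv⟩ := classInner_isNat (isCharacter_comp j (isIrr_isCharacter h.irr))
    (isIrr_isCharacter hθ)
  have h1 : ψ ∘ j = (ψ 1 / θ 1) • θ := by
    funext a
    simp only [Function.comp, Pi.smul_apply, smul_eq_mul]
    rw [div_mul_eq_mul_div, eq_div_iff h0]
    exact h.lies a
  rw [h1, classInner_smul_left, classInner_irr_self hθ, mul_one] at hv
  have h2 : ψ 1 = v * θ 1 := by rw [← hv, div_mul_cancel₀ _ h0]
  refine ⟨v, Nat.pos_of_ne_zero ?_, h2⟩
  rintro rfl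
  rw [Nat.cast_zero, zero_mul] at h2
  exact isIrr_apply_one_ne_zero h.irr h2

theorem sum_norm_sq [Fintype K] (h : IsIrrCharacter K ψ) :
    ∑ k : K, Complex.normSq (ψ k) = Nat.card K := by
  have h1 := classInner_irr_self h
  rw [classInner_def, inv_mul_eq_one₀ card_ne_zero_complex] at h1
  have h2 : ((∑ k : K, Complex.normSq (ψ k) : ℝ) : ℂ) = (Nat.card K : ℂ) := by
    rw [h1]
    push_cast
    exact Finset.sum_congr rfl fun k _ => (Complex.mul_conj _).symm
  exact_mod_cast h2

theorem sum_comp [Fintype A] (h : OverMul j θ ψ) (hθ : IsIrrCharacter A θ) {v : ℕ}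
    (hv : ψ 1 = v * θ 1) : ∑ a : A, Complex.normSq (ψ (j a)) = v ^ 2 * Nat.card A := by
  have h1 : ∀ a, Complex.normSq (ψ (j a)) = (v : ℝ) ^ 2 * Complex.normSq (θ a) := by
    intro a
    rw [h.apply hθ hv, map_mul]
    congr 1
    rw [Complex.normSq_natCast]; ring
  simp_rw [h1]
  rw [← Finset.mul_sum, sum_norm_sq hθ]

/-- The square of the relative degree is at most the index. -/
theorem OverMul.sq_le [Finite K] (hj : Function.Injective j) (h : OverMul j θ ψ)
    (hθ : IsIrrCharacter A θ) {v : ℕ} (hv : ψ 1 = v * θ 1) : v ^ 2 * Nat.card A ≤ Nat.card K := by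
  classical
  have := Fintype.ofFinite K
  have := Fintype.ofInjective j hj
  have h1 := sum_norm_sq h.irr
  have h2 := sum_comp h hθ hv
  have h3 : ∑ a : A, Complex.normSq (ψ (j a)) ≤ ∑ k : K, Complex.normSq (ψ k) := by
    rw [← Finset.sum_image (s := Finset.univ) (g := j) (f := fun k => Complex.normSq (ψ k))
      (fun a _ b _ hab => hj hab)]
    exact Finset.sum_le_sum_of_subset_of_nonneg (Finset.subset_univ _)
      fun k _ _ => Complex.normSq_nonneg _
  rw [h1, h2] at h3
  exact_mod_cast h3

theorem FullRam.sq_eq (h : FullRam j θ ψ) (hθ : IsIrrCharacter A θ) {v : ℕ}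
    (hv : ψ 1 = v * θ 1) : v ^ 2 * Nat.card A = Nat.card K := by
  have h1 := h.deg
  have h0 := isIrr_apply_one_ne_zero hθ
  rw [hv] at h1
  have h2 : ((v : ℂ) ^ 2 * Nat.card A) * θ 1 ^ 2 = (Nat.card K : ℂ) * θ 1 ^ 2 := by
    rw [← h1]; ring
  have h3 := mul_right_cancel₀ (pow_ne_zero 2 h0) h2
  exact_mod_cast h3

theorem OverMul.fullRam (h : OverMul j θ ψ) {v : ℕ}
    (hv : ψ 1 = v * θ 1) (h2 : v ^ 2 * Nat.card A = Nat.card K) : FullRam j θ ψ := by
  refine ⟨h, ?_⟩
  rw [hv, ← h2]
  push_cast
  ring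

/-- A fully ramified character vanishes outside the range. -/
theorem FullRam.eq_zero [Finite K] (hj : Function.Injective j) (h : FullRam j θ ψ)
    (hθ : IsIrrCharacter A θ) {k : K} (hk : k ∉ j.range) : ψ k = 0 := by
  classical
  have := Fintype.ofFinite K
  have := Fintype.ofInjective j hj
  obtain ⟨v, -, hv⟩ := h.exists_deg hθ
  have h1 := sum_norm_sq h.irr
  have h2 := sum_comp h.toOverMul hθ hv
  have h4 : ∑ a : A, Complex.normSq (ψ (j a)) = ∑ k : K, Complex.normSq (ψ k) := by
    rw [h1, h2]
    exact_mod_cast h.sq_eq hθ hv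
  have h5 : ∑ k ∈ Finset.univ.image j, Complex.normSq (ψ k) = ∑ a : A, Complex.normSq (ψ (j a)) :=
    Finset.sum_image (s := Finset.univ) (g := j) (f := fun k => Complex.normSq (ψ k))
      (fun a _ b _ hab => hj hab)
  have h6 : ∑ k ∈ (Finset.univ.image j)ᶜ, Complex.normSq (ψ k) = 0 := by
    have := Finset.sum_add_sum_compl (Finset.univ.image j) (fun k => Complex.normSq (ψ k))
    rw [h5, h4] at this
    linarith
  have h7 := (Finset.sum_eq_zero_iff_of_nonneg fun k _ => Complex.normSq_nonneg _).1 h6 k (by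
    rw [Finset.mem_compl, Finset.mem_image]
    rintro ⟨a, -, rfl⟩
    exact hk ⟨a, rfl⟩)
  exact Complex.normSq_eq_zero.1 h7

end basic

section mult

variable {j : A →* K} {θ : A → ℂ} {ψ : K → ℂ} {X : L → ℂ}

/-- The inner product of the restriction of a fully ramified character. -/
theorem inner_fullRam [Fintype K] [Finite L] (f : K →* L) (hf : Function.Injective f)
    (hj : Function.Injective j) (hθ : IsIrrCharacter A θ) (hX : FullRam (f.comp j) θ X)
    (hψ : OverMul j θ ψ) {x v : ℕ} (hx : X 1 = x * θ 1) (hv : ψ 1 = v * θ 1) :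
    classInner (X ∘ f) ψ * Nat.card K = x * v * Nat.card A := by
  classical
  have := Fintype.ofInjective j hj
  have hfj : Function.Injective (f.comp j) := hf.comp hj
  have hsub : ∑ k : K, X (f k) * conj (ψ k) = ∑ a : A, X (f (j a)) * conj (ψ (j a)) := by
    rw [← Finset.sum_image (s := Finset.univ) (g := j) (f := fun k => X (f k) * conj (ψ k))
      (fun a _ b _ hab => hj hab)]
    symm
    apply Finset.sum_subset (Finset.subset_univ _)
    intro k _ hk
    rw [hX.eq_zero hfj hθ (k := f k), zero_mul]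
    rintro ⟨a, ha⟩
    apply hk
    rw [Finset.mem_image]
    exact ⟨a, Finset.mem_univ _, hf ha⟩
  have h1 : ∀ a, X (f (j a)) * conj (ψ (j a)) = (x * v : ℂ) * (θ a * conj (θ a)) := by
    intro a
    have e1 : X (f (j a)) = x * θ a := hX.apply hθ hx a
    rw [e1, hψ.apply hθ hv, map_mul, Complex.conj_natCast]
    ring
  have h2 : ∑ a : A, θ a * conj (θ a) = Nat.card A := by
    have := classInner_irr_self hθ
    rwa [classInner_def, inv_mul_eq_one₀ card_ne_zero_complex, eq_comm] at this
  rw [classInner_def]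
  simp only [Function.comp]
  rw [hsub, Finset.sum_congr rfl fun a _ => h1 a, ← Finset.mul_sum, h2]
  have h3 : (Nat.card K : ℂ) ≠ 0 := card_ne_zero_complex
  field_simp

theorem exists_mult [Finite K] [Finite L] (f : K →* L) (hf : Function.Injective f)
    (hj : Function.Injective j) (hθ : IsIrrCharacter A θ) (hX : FullRam (f.comp j) θ X)
    (hψ : OverMul j θ ψ) {x v : ℕ} (hx : X 1 = x * θ 1) (hv : ψ 1 = v * θ 1) :
    ∃ m : ℕ, m * Nat.card K = x * v * Nat.card A := by
  classical
  have := Fintype.ofFinite K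
  obtain ⟨m, hm⟩ := classInner_isNat (isCharacter_comp f (isIrr_isCharacter hX.irr))
    (isIrr_isCharacter hψ.irr)
  have h := inner_fullRam f hf hj hθ hX hψ hx hv
  rw [hm] at h
  exact ⟨m, by exact_mod_cast h⟩

theorem inner_ne_zero [Fintype K] [Finite L] (f : K →* L) (hf : Function.Injective f)
    (hj : Function.Injective j) (hθ : IsIrrCharacter A θ) (hX : FullRam (f.comp j) θ X)
    (hψ : OverMul j θ ψ) : classInner (X ∘ f) ψ ≠ 0 := by
  classical
  have : Finite A := Finite.of_injective j hj
  obtain ⟨x, hx0, hx⟩ := hX.exists_deg hθ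
  obtain ⟨v, hv0, hv⟩ := hψ.exists_deg hθ
  have h := inner_fullRam f hf hj hθ hX hψ hx hv
  intro h0
  rw [h0, zero_mul] at h
  have h3 : (Nat.card A : ℂ) ≠ 0 := card_ne_zero_complex
  have h4 : (x : ℂ) ≠ 0 := by exact_mod_cast hx0.ne'
  have h5 : (v : ℂ) ≠ 0 := by exact_mod_cast hv0.ne'
  exact mul_ne_zero (mul_ne_zero h4 h5) h3 h.symm

/-- Uniqueness of the fully ramified character. -/
theorem eq_of_fullRam [Finite K] (hj : Function.Injective j) (hθ : IsIrrCharacter A θ)
    {Y : K → ℂ} (hY : FullRam j θ Y) (hψ : OverMul j θ ψ) : ψ = Y := by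
  classical
  have := Fintype.ofFinite K
  have h := inner_ne_zero (MonoidHom.id K) (fun _ _ h => h) hj hθ (X := Y) hY hψ
  by_contra hne
  exact h (classInner_irr_ne hY.irr hψ.irr (fun h => hne h.symm))

end mult

section restrict

variable {j : A →* K} {θ : A → ℂ} {χ ψ : K → ℂ}

/-- If the restriction of the character `χ` is a multiple of `θ`, the same holds for its
constituents. -/
theorem overMul_of_constituent [Fintype K] [Finite A] (hθ : IsIrrCharacter A θ)
    (hχ : IsCharacter K χ)
    (hl : ∀ a, χ (j a) * θ 1 = χ 1 * θ a) (hψ : IsIrrCharacter K ψ) (h0 : classInner χ ψ ≠ 0) :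
    OverMul j θ ψ := by
  classical
  have := Fintype.ofFinite A
  have := finite_irr (G := K)
  have := Fintype.ofFinite (IrrCharacter K)
  have := finite_irr (G := A)
  have := Fintype.ofFinite (IrrCharacter A)
  refine ⟨hψ, ?_⟩
  have hθ0 := isIrr_apply_one_ne_zero hθ
  obtain ⟨m, hm⟩ := exists_nat_comb hχ
  have hmψ : (m ⟨ψ, hψ⟩ : ℂ) = classInner χ ψ := by
    rw [hm]
    exact (classInner_sum_nsmul_irr m ⟨ψ, hψ⟩).symm
  have hm0 : m ⟨ψ, hψ⟩ ≠ 0 := by
    intro h
    apply h0
    rw [← hmψ, h, Nat.cast_zero]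
  -- inner products with other characters of `A`
  have key : ∀ α : A → ℂ, IsIrrCharacter A α → α ≠ θ → classInner (ψ ∘ j) α = 0 := by
    intro α hα hne
    have h1 : χ ∘ j = (χ 1 / θ 1) • θ := by
      funext a
      simp only [Function.comp, Pi.smul_apply, smul_eq_mul]
      rw [div_mul_eq_mul_div, eq_div_iff hθ0]
      exact hl a
    have h2 : classInner (χ ∘ j) α = 0 := by
      rw [h1, classInner_smul_left, classInner_irr_ne hθ hα hne.symm, mul_zero]
    have h3 : χ ∘ j = ∑ φ : IrrCharacter K, (m φ : ℂ) • ((φ : K → ℂ) ∘ j) := by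
      funext a
      have := congrFun hm (j a)
      simp only [Function.comp, Finset.sum_apply, Pi.smul_apply, nsmul_eq_mul, smul_eq_mul]
        at this ⊢
      exact this
    choose c hc using fun φ : IrrCharacter K =>
      classInner_isNat (isCharacter_comp j (isIrr_isCharacter φ.2)) (isIrr_isCharacter hα)
    rw [h3, classInner_sum_left] at h2
    simp_rw [classInner_smul_left, hc] at h2
    have h4 : ∑ φ : IrrCharacter K, m φ * c φ = 0 := by exact_mod_cast h2
    have h5 := (Finset.sum_eq_zero_iff.1 h4) ⟨ψ, hψ⟩ (Finset.mem_univ _)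
    have h6 : c ⟨ψ, hψ⟩ = 0 := (mul_eq_zero.1 h5).resolve_left hm0
    have := hc ⟨ψ, hψ⟩
    rw [h6, Nat.cast_zero] at this
    exact this
  -- hence `ψ ∘ j` is a multiple of `θ`
  have hcl : IsClassFunction A (ψ ∘ j) :=
    isCharacter_isClassFunction (isCharacter_comp j (isIrr_isCharacter hψ))
  have h7 : ψ ∘ j = (classInner (ψ ∘ j) θ) • θ := by
    apply sub_eq_zero.1
    apply classFunction_eq_zero
    · intro g h
      simp only [Pi.sub_apply, Pi.smul_apply]
      rw [hcl g h, isIrr_isClassFunction hθ g h]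
    · intro α hα
      rw [classInner_sub_left, classInner_smul_left]
      by_cases h : α = θ
      · rw [h, classInner_irr_self hθ, mul_one, sub_self]
      · rw [key α hα h, classInner_irr_ne hθ hα (fun h' => h h'.symm), mul_zero, sub_zero]
  intro a
  have e1 : ψ (j a) = classInner (ψ ∘ j) θ * θ a := congrFun h7 a
  have e2 : ψ 1 = classInner (ψ ∘ j) θ * θ 1 := by
    have := congrFun h7 1
    simp only [Function.comp, map_one, Pi.smul_apply, smul_eq_mul] at this
    exact this
  rw [e1, e2]; ring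

end restrict

section count

variable {j : A →* K} {θ : A → ℂ} {X : L → ℂ}

/-- If all characters of `K` over `θ` have degree `v * θ 1`, then `v` divides the relative degree
of each character lying over `θ` of an overgroup. -/
theorem dvd_of_overMul [Finite K] [Finite A] (f : K →* L)
    (hθ : IsIrrCharacter A θ) (hX : OverMul (f.comp j) θ X) {x v : ℕ} (hx : X 1 = x * θ 1)
    (hv : ∀ ψ : K → ℂ, OverMul j θ ψ → ψ 1 = v * θ 1) : v ∣ x := by
  classical
  have := Fintype.ofFinite K
  have := finite_irr (G := K)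
  have := Fintype.ofFinite (IrrCharacter K)
  have hχ : IsCharacter K (X ∘ f) := isCharacter_comp f (isIrr_isCharacter hX.irr)
  obtain ⟨m, hm⟩ := exists_nat_comb hχ
  have hover : ∀ φ : IrrCharacter K, m φ ≠ 0 → OverMul j θ (φ : K → ℂ) := by
    intro φ hφ
    apply overMul_of_constituent hθ hχ _ φ.2
    · rw [hm, classInner_sum_nsmul_irr m φ]
      exact_mod_cast hφ
    · intro a
      have := hX.lies a
      simp only [Function.comp, map_one]
      exact this
  have h1 : X 1 = ∑ φ : IrrCharacter K, (m φ : ℂ) * (φ : K → ℂ) 1 := by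
    have := congrFun hm 1
    simp only [Function.comp, map_one, Finset.sum_apply, nsmul_eq_mul] at this
    exact this
  have h2 : X 1 = ((∑ φ : IrrCharacter K, m φ) * v : ℕ) * θ 1 := by
    rw [h1, Nat.cast_mul, Nat.cast_sum, Finset.sum_mul, Finset.sum_mul]
    refine Finset.sum_congr rfl fun φ _ => ?_
    by_cases h : m φ = 0
    · rw [h]; simp
    · rw [hv _ (hover φ h)]; ring
  rw [hx] at h2
  have h3 := mul_right_cancel₀ (isIrr_apply_one_ne_zero hθ) h2
  have h4 : x = (∑ φ : IrrCharacter K, m φ) * v := by exact_mod_cast h3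
  exact Dvd.intro_left _ h4.symm

/-- If all characters of `K` over `θ` have degree `v * θ 1`, their number `J` satisfies
`J * v ^ 2 * |A| = |K|`. -/
theorem card_mul [Finite K] [Finite L] (f : K →* L) (hf : Function.Injective f)
    (hj : Function.Injective j) (hθ : IsIrrCharacter A θ) (hX : FullRam (f.comp j) θ X) {v : ℕ}
    (hv : ∀ ψ : K → ℂ, OverMul j θ ψ → ψ 1 = v * θ 1) :
    Nat.card {ψ : K → ℂ // OverMul j θ ψ} * v ^ 2 * Nat.card A = Nat.card K := by
  classical
  have : Finite A := Finite.of_injective j hj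
  have := Fintype.ofFinite K
  have := finite_irr (G := K)
  have := Fintype.ofFinite (IrrCharacter K)
  have hχ : IsCharacter K (X ∘ f) := isCharacter_comp f (isIrr_isCharacter hX.irr)
  obtain ⟨m, hm⟩ := exists_nat_comb hχ
  obtain ⟨x, hx0, hx⟩ := hX.exists_deg hθ
  have hmφ : ∀ φ : IrrCharacter K, (m φ : ℂ) = classInner (X ∘ f) (φ : K → ℂ) := by
    intro φ
    rw [hm]
    exact (classInner_sum_nsmul_irr m φ).symm
  have hover : ∀ φ : IrrCharacter K, m φ ≠ 0 → OverMul j θ (φ : K → ℂ) := by
    intro φ hφ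
    apply overMul_of_constituent hθ hχ _ φ.2
    · rw [← hmφ]
      exact_mod_cast hφ
    · intro a
      have := hX.lies a
      simp only [Function.comp, map_one]
      exact this
  have hmv : ∀ φ : IrrCharacter K, OverMul j θ (φ : K → ℂ) → m φ * Nat.card K =
      x * v * Nat.card A := by
    intro φ hφ
    have := inner_fullRam f hf hj hθ hX hφ hx (hv _ hφ)
    rw [← hmφ] at this
    exact_mod_cast this
  have h1 : X 1 = ∑ φ : IrrCharacter K, (m φ : ℂ) * (φ : K → ℂ) 1 := by
    have := congrFun hm 1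
    simp only [Function.comp, map_one, Finset.sum_apply, nsmul_eq_mul] at this
    exact this
  have h2 : X 1 = ((∑ φ : IrrCharacter K, m φ) * v : ℕ) * θ 1 := by
    rw [h1, Nat.cast_mul, Nat.cast_sum, Finset.sum_mul, Finset.sum_mul]
    refine Finset.sum_congr rfl fun φ _ => ?_
    by_cases h : m φ = 0
    · rw [h]; simp
    · rw [hv _ (hover φ h)]; ring
  rw [hx] at h2
  have h3 := mul_right_cancel₀ (isIrr_apply_one_ne_zero hθ) h2
  have h4 : x = (∑ φ : IrrCharacter K, m φ) * v := by exact_mod_cast h3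
  have h5 : (∑ φ : IrrCharacter K, m φ) * Nat.card K =
      Nat.card {ψ : K → ℂ // OverMul j θ ψ} * (x * v * Nat.card A) := by
    have e : {ψ : K → ℂ // OverMul j θ ψ} ≃ {φ : IrrCharacter K // OverMul j θ (φ : K → ℂ)} :=
      { toFun := fun ψ => ⟨⟨ψ.1, ψ.2.irr⟩, ψ.2⟩
        invFun := fun φ => ⟨φ.1.1, φ.2⟩
        left_inv := fun ψ => rfl
        right_inv := fun φ => rfl }
    rw [Nat.card_congr e, Nat.card_eq_fintype_card
      (α := {φ : IrrCharacter K // OverMul j θ (φ : K → ℂ)}), Fintype.card_subtype, Finset.sum_mul,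
      ← smul_eq_mul (a := Finset.card _), ← Finset.sum_const, Finset.sum_filter]
    refine Finset.sum_congr rfl fun φ _ => ?_
    split_ifs with h
    · exact hmv φ h
    · have : m φ = 0 := by
        by_contra hne
        exact h (hover φ hne)
      rw [this, zero_mul]
  have h6 : x * Nat.card K = x * (Nat.card {ψ : K → ℂ // OverMul j θ ψ} * v ^ 2 * Nat.card A) := by
    conv_lhs => rw [h4]
    calc (∑ φ : IrrCharacter K, m φ) * v * Nat.card K
        = ((∑ φ : IrrCharacter K, m φ) * Nat.card K) * v := by ring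
      _ = _ := by rw [h5]; ring
  exact (Nat.eq_of_mul_eq_mul_left hx0 h6).symm

/-- Subgroups of coprime order and index inherit full ramification. -/
theorem fullRam_of_coprime [Finite K] [Finite L] (f : K →* L) (hf : Function.Injective f)
    (hj : Function.Injective j) (hθ : IsIrrCharacter A θ) (hX : FullRam (f.comp j) θ X)
    {h t : ℕ} (hK : Nat.card K = Nat.card A * h) (hL : Nat.card L = Nat.card K * t)
    (hco : h.Coprime t) {ψ : K → ℂ} (hψ : OverMul j θ ψ) : FullRam j θ ψ := by
  have : Finite A := Finite.of_injective j hj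
  obtain ⟨x, hx0, hx⟩ := hX.exists_deg hθ
  obtain ⟨v, hv0, hv⟩ := hψ.exists_deg hθ
  obtain ⟨m, hm⟩ := exists_mult f hf hj hθ hX hψ hx hv
  have hxL := hX.sq_eq hθ hx
  have hvK := hψ.sq_le hj hθ hv
  have hA : 0 < Nat.card A := Nat.card_pos
  rw [hK] at hm hvK hL
  have h1 : m * h = x * v := by
    apply Nat.eq_of_mul_eq_mul_left hA
    calc Nat.card A * (m * h) = m * (Nat.card A * h) := by ring
      _ = Nat.card A * (x * v) := by rw [hm]; ring
  have h2 : x ^ 2 = h * t := by
    apply Nat.eq_of_mul_eq_mul_right hA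
    rw [hxL, hL]; ring
  have h0 : 0 < h := by
    rcases Nat.eq_zero_or_pos h with h' | h'
    · rw [h', mul_zero] at hK
      have : 0 < Nat.card K := Nat.card_pos
      omega
    · exact h'
  have h3 : m ^ 2 * h = t * v ^ 2 := by
    apply Nat.eq_of_mul_eq_mul_left h0
    calc h * (m ^ 2 * h) = (m * h) ^ 2 := by ring
      _ = x ^ 2 * v ^ 2 := by rw [h1]; ring
      _ = h * (t * v ^ 2) := by rw [h2]; ring
  have h4 : h ∣ v ^ 2 := by
    have : h ∣ t * v ^ 2 := by rw [← h3]; exact Dvd.intro_left _ rfl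
    exact hco.dvd_of_dvd_mul_left this
  have h5 : v ^ 2 ≤ h := by
    apply Nat.le_of_mul_le_mul_left _ hA
    calc Nat.card A * v ^ 2 = v ^ 2 * Nat.card A := by ring
      _ ≤ _ := hvK
  have h6 : v ^ 2 = h := le_antisymm h5 (Nat.le_of_dvd (by positivity) h4)
  apply hψ.fullRam hv
  rw [hK, h6]; ring

/-- There is a character of `K` over `θ`. -/
theorem exists_overMul [Finite K] (f : K →* L) [Finite A]
    (hθ : IsIrrCharacter A θ) (hX : OverMul (f.comp j) θ X) :
    ∃ ψ : K → ℂ, OverMul j θ ψ := by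
  classical
  have := Fintype.ofFinite K
  have hχ : IsCharacter K (X ∘ f) := isCharacter_comp f (isIrr_isCharacter hX.irr)
  by_contra hcon
  push Not at hcon
  have h0 : X ∘ f = 0 := by
    apply classFunction_eq_zero (isCharacter_isClassFunction hχ)
    intro ψ hψ
    by_contra hne
    apply hcon ψ
    apply overMul_of_constituent hθ hχ _ hψ hne
    intro a
    have := hX.lies a
    simp only [Function.comp, map_one]
    exact this
  have := congrFun h0 1
  simp only [Function.comp, map_one, Pi.zero_apply] at this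
  exact isIrr_apply_one_ne_zero hX.irr this

end count

section clifford

variable {j : A →* K} {θ : A → ℂ} {X : L → ℂ}

/-- **Clifford**: if the range of `f` is normal in `L`, the characters of `K` over `θ` are
conjugate under `L`. -/
theorem exists_conj [Finite K] [Finite L] (f : K →* L) (hf : Function.Injective f)
    (hn : f.range.Normal) (hj : Function.Injective j) (hθ : IsIrrCharacter A θ)
    (hX : FullRam (f.comp j) θ X) {φ ψ : K → ℂ} (hφ : OverMul j θ φ) (hψ : OverMul j θ ψ) :
    ∃ x : L, ∀ k k' : K, f k' = x * f k * x⁻¹ → φ k' = ψ k := by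
  classical
  have := Fintype.ofFinite K
  have := Fintype.ofFinite L
  have := Fintype.ofFinite f.range
  let e : K ≃* f.range := MonoidHom.ofInjective hf
  have he : ∀ k, ((e k : f.range) : L) = f k := fun k => rfl
  have hes : ∀ y : f.range, f (e.symm y) = y := by
    intro y
    have := he (e.symm y)
    rw [MulEquiv.apply_symm_apply] at this
    exact this.symm
  have hir : ∀ χ : K → ℂ, IsIrrCharacter K χ → IsIrrCharacter f.range (χ ∘ e.symm) :=
    fun χ hχ => isIrr_comp (e.symm : f.range →* K) e.symm.surjective hχ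
  have hin : ∀ χ : K → ℂ, OverMul j θ χ →
      classInner (fun n : f.range => X n) (χ ∘ e.symm) ≠ 0 := by
    intro χ hχ
    have h1 : (fun n : f.range => X n) = (X ∘ f) ∘ e.symm := by
      funext y
      simp only [Function.comp, hes]
    rw [h1, Characters.Clifford.classInner_comp_mulEquiv]
    exact inner_ne_zero f hf hj hθ hX hχ
  obtain ⟨g, hg⟩ := Characters.Clifford.exists_conj_of_constituents f.range hX.irr
    (hir φ hφ.irr) (hir ψ hψ.irr) (hin φ hφ) (hin ψ hψ)
  refine ⟨g, fun k k' hk => ?_⟩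
  have h2 := congrFun hg (e k)
  simp only [Function.comp, MulEquiv.symm_apply_apply] at h2
  rw [h2]
  congr 1
  rw [MulEquiv.eq_symm_apply]
  apply Subtype.ext
  rw [MulAut.conjNormal_apply, he, he]
  exact hk

/-- All characters of `K` over `θ` have the same degree if the range of `f` is normal. -/
theorem deg_eq [Finite K] [Finite L] (f : K →* L) (hf : Function.Injective f)
    (hn : f.range.Normal) (hj : Function.Injective j) (hθ : IsIrrCharacter A θ)
    (hX : FullRam (f.comp j) θ X) {φ ψ : K → ℂ} (hφ : OverMul j θ φ) (hψ : OverMul j θ ψ) :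
    φ 1 = ψ 1 := by
  obtain ⟨x, hx⟩ := exists_conj f hf hn hj hθ hX hφ hψ
  exact hx 1 1 (by simp)

end clifford

end Cfsg.Agent.H622.FR
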