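import Mathlib
import Cfsg.Agent.H622.FR
import Cfsg.Agent.H622.Grp

/-!
# The action of a normalizer on the characters of a Sylow subgroup over a fully ramified
character

`G` is fully ramified over `(N, θ)`, `N ≤ R` normal, `Q` a Sylow `s`-subgroup,
`W = (N ⊔ Q) ⊓ R`. The normalizer `Y` of `W` acts transitively on the set `Ov` of characters of
`W` over `θ`, and `Y ⊓ R` acts trivially; `|Ov|` is a power of `s`. So `G ⧸ R` has a
subgroup of index `|Ov|` (`exists_index`).
-/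

set_option autoImplicit false
set_option linter.style.haveILetI false
set_option linter.unusedSectionVars false
open Cfsg

namespace Cfsg.Agent.H622.Star

open Cfsg.Agent.Characters.Core Subgroup Cfsg.Agent.H622.FR Cfsg.Agent.H622.Grp

universe u

variable {G : Type u} [Group G] {N : Subgroup G} {θ : N → ℂ}

/-- `θ` is invariant in `G`. -/
def Inv [N.Normal] (θ : N → ℂ) : Prop := ∀ (g : G) (n : N), θ (MulAut.conjNormal g n) = θ n

theorem inv_of_overMul [N.Normal] {X : G → ℂ} (hX : OverMul N.subtype θ X) : Inv θ := by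
  intro g n
  have h1 := hX.lies n
  have h2 := hX.lies (MulAut.conjNormal g n)
  have h3 : X (N.subtype (MulAut.conjNormal g n)) = X (N.subtype n) := by
    have := isIrr_isClassFunction hX.irr (n : G) g
    exact this
  rw [h3, h1] at h2
  exact (mul_left_cancel₀ (isIrr_apply_one_ne_zero hX.irr) h2).symm

/-- The set of characters of `W` over `θ`. -/
def Ov {W : Subgroup G} (h : N ≤ W) (θ : N → ℂ) : Type u :=
  {ω : W → ℂ // OverMul (inclusion h) θ ω}

theorem finite_ov [Finite G] {W : Subgroup G} (h : N ≤ W) : Finite (Ov h θ) := by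
  have := finite_irr (G := W)
  exact Finite.of_injective (fun ω : Ov h θ => (⟨ω.1, ω.2.irr⟩ : IrrCharacter W)) fun a b hab => by
    apply Subtype.ext
    exact congrArg (fun x : IrrCharacter W => (x : W → ℂ)) hab

/-- The action of the normalizer. -/
@[reducible] def act [N.Normal] (hinv : Inv θ) {W : Subgroup G} (h : N ≤ W) :
    MulAction (normalizer (W : Set G)) (Ov h θ) where
  smul y ω := ⟨ω.1 ∘ W.normalizerMonoidHom y⁻¹, by
    refine ⟨isIrr_comp (W.normalizerMonoidHom y⁻¹ : W →* W)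
      (W.normalizerMonoidHom y⁻¹ : MulAut W).surjective ω.2.irr, ?_⟩
    intro n
    have h1 : W.normalizerMonoidHom y⁻¹ (inclusion h n) =
        inclusion h (MulAut.conjNormal (y : G)⁻¹ n) := rfl
    simp only [Function.comp, map_one]
    rw [h1, ω.2.lies, hinv]⟩
  one_smul ω := by
    apply Subtype.ext
    show ω.1 ∘ W.normalizerMonoidHom 1⁻¹ = ω.1
    rw [inv_one, map_one]
    rfl
  mul_smul x y ω := by
    apply Subtype.ext
    show ω.1 ∘ W.normalizerMonoidHom (x * y)⁻¹ =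
      (ω.1 ∘ W.normalizerMonoidHom y⁻¹) ∘ W.normalizerMonoidHom x⁻¹
    rw [mul_inv_rev, map_mul]
    rfl

theorem smul_coe [N.Normal] (hinv : Inv θ) {W : Subgroup G} (h : N ≤ W)
    (y : normalizer (W : Set G)) (ω : Ov h θ) (w w' : W) (hw : (w' : G) = (y : G)⁻¹ * w * y) :
    letI := act hinv h
    (y • ω).1 w = ω.1 w' := by
  have : w' = W.normalizerMonoidHom y⁻¹ w := by
    apply Subtype.ext
    rw [hw]
    show _ = (y : G)⁻¹ * w * (y : G)⁻¹⁻¹
    rw [inv_inv]
  rw [this]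
  rfl

section main

variable [Finite G] [N.Normal] (hθ : IsIrrCharacter N θ) {X : G → ℂ}
  (hX : FullRam N.subtype θ X)

include hθ hX

/-- Hall subgroups inherit full ramification. -/
theorem exists_fullRam {P : Subgroup G} (hNP : N ≤ P) (hco : (N.relIndex P).Coprime P.index) :
    ∃ XP : P → ℂ, FullRam (inclusion hNP) θ XP := by
  have hc : P.subtype.comp (inclusion hNP) = N.subtype := rfl
  obtain ⟨ψ, hψ⟩ := exists_overMul (j := inclusion hNP) P.subtype hθ (hc ▸ hX.toOverMul)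
  refine ⟨ψ, ?_⟩
  refine fullRam_of_coprime (L := G) P.subtype P.subtype_injective (inclusion_injective hNP) hθ
    (X := X) (hc ▸ hX) (card_mul_relIndex hNP).symm ?_ hco hψ
  exact (card_mul_index P).symm

theorem exists_fullRam_sylow {s : ℕ} [Fact s.Prime] (Q : Sylow s G) :
    ∃ XP : (N ⊔ (Q : Subgroup G) : Subgroup G) → ℂ,
      FullRam (inclusion (le_sup_left : N ≤ N ⊔ (Q : Subgroup G))) θ XP := by
  apply exists_fullRam hθ hX
  obtain ⟨a, ha⟩ := exists_relIndex_sup Q N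
  rw [ha]
  exact ((Nat.Prime.coprime_iff_not_dvd Fact.out).2 (not_dvd_index_sup Q N)).pow_left a

end main

section transitive

variable [Finite G] [N.Normal] (hθ : IsIrrCharacter N θ)

include hθ

/-- If `P` is fully ramified and `W` is normal in `P`, the characters of `W` over `θ` are conjugate
under `P`. -/
theorem exists_conj_le {P W : Subgroup G} (hNP : N ≤ P) (hNW : N ≤ W) (hWP : W ≤ P)
    (hn : P ≤ normalizer (W : Set G)) {XP : P → ℂ} (hXP : FullRam (inclusion hNP) θ XP)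
    {φ ψ : W → ℂ} (hφ : OverMul (inclusion hNW) θ φ) (hψ : OverMul (inclusion hNW) θ ψ) :
    ∃ x ∈ P, ∀ w w' : W, (w' : G) = x * w * x⁻¹ → φ w' = ψ w := by
  have hr : (inclusion hWP).range.Normal := by
    rw [inclusion_range]
    exact normal_subgroupOf_of_le_normalizer hn
  obtain ⟨x, hx⟩ := exists_conj (inclusion hWP) (inclusion_injective hWP) hr
    (inclusion_injective hNW) hθ (X := XP) hXP hφ hψ
  refine ⟨x, x.2, fun w w' h => hx w w' (Subtype.ext h)⟩

theorem exists_card_ov {P W : Subgroup G} (hNP : N ≤ P) (hNW : N ≤ W) (hWP : W ≤ P)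
    (hn : P ≤ normalizer (W : Set G)) {XP : P → ℂ} (hXP : FullRam (inclusion hNP) θ XP) :
    ∃ v : ℕ, 0 < v ∧ (∀ ψ : W → ℂ, OverMul (inclusion hNW) θ ψ → ψ 1 = v * θ 1) ∧
      Nat.card (Ov hNW θ) * v ^ 2 = N.relIndex W := by
  have hr : (inclusion hWP).range.Normal := by
    rw [inclusion_range]
    exact normal_subgroupOf_of_le_normalizer hn
  obtain ⟨φ, hφ⟩ := exists_overMul (j := inclusion hNW) (inclusion hWP) hθ (X := XP)
    hXP.toOverMul
  obtain ⟨v, hv0, hv⟩ := hφ.exists_deg hθ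
  have hall : ∀ ψ : W → ℂ, OverMul (inclusion hNW) θ ψ → ψ 1 = v * θ 1 := by
    intro ψ hψ
    rw [← hv]
    exact deg_eq (inclusion hWP) (inclusion_injective hWP) hr
      (inclusion_injective hNW) hθ (X := XP) hXP hψ hφ
  refine ⟨v, hv0, hall, ?_⟩
  have h1 := card_mul (inclusion hWP) (inclusion_injective hWP)
    (inclusion_injective hNW) hθ (X := XP) hXP hall
  rw [← card_mul_relIndex hNW, mul_comm] at h1
  exact Nat.eq_of_mul_eq_mul_left Nat.card_pos h1

end transitive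

section star

variable [Finite G] [N.Normal] (hθ : IsIrrCharacter N θ) {X : G → ℂ}
  (hX : FullRam N.subtype θ X) (R : Subgroup G) [R.Normal] (hNR : N ≤ R) {s : ℕ} [Fact s.Prime]
  (Q : Sylow s G)

include hθ hX in
theorem isPretransitive :
    letI := act (inv_of_overMul hX.toOverMul) (le_inf le_sup_left hNR : N ≤ (N ⊔ (Q : Subgroup G)) ⊓ R)
    MulAction.IsPretransitive (normalizer (((N ⊔ (Q : Subgroup G)) ⊓ R : Subgroup G) : Set G))
      (Ov (le_inf le_sup_left hNR : N ≤ (N ⊔ (Q : Subgroup G)) ⊓ R) θ) := by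
  letI := act (inv_of_overMul hX.toOverMul) (le_inf le_sup_left hNR : N ≤ (N ⊔ (Q : Subgroup G)) ⊓ R)
  obtain ⟨XP, hXP⟩ := exists_fullRam_sylow hθ hX Q
  refine ⟨fun ψ φ => ?_⟩
  obtain ⟨x, hxP, hx⟩ := exists_conj_le hθ le_sup_left (le_inf le_sup_left hNR) inf_le_left
    (le_normalizer_inf R (N ⊔ (Q : Subgroup G))) hXP ψ.2 φ.2
  refine ⟨⟨x⁻¹, inv_mem (le_normalizer_inf R _ hxP)⟩, ?_⟩
  apply Subtype.ext
  funext w
  have hw : x * (w : G) * x⁻¹ ∈ (N ⊔ (Q : Subgroup G)) ⊓ R := by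
    have := le_normalizer_inf R _ hxP
    exact (mem_normalizer_iff.1 this (w : G)).1 w.2
  rw [smul_coe (inv_of_overMul hX.toOverMul) _ _ _ w ⟨x * (w : G) * x⁻¹, hw⟩ (by simp)]
  exact hx w _ rfl

include hθ hX in
theorem exists_card_pow :
    ∃ b : ℕ, Nat.card (Ov (le_inf le_sup_left hNR : N ≤ (N ⊔ (Q : Subgroup G)) ⊓ R) θ) = s ^ b := by
  obtain ⟨XP, hXP⟩ := exists_fullRam_sylow hθ hX Q
  obtain ⟨v, -, -, hv⟩ := exists_card_ov hθ le_sup_left (le_inf le_sup_left hNR) inf_le_left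
    (le_normalizer_inf R (N ⊔ (Q : Subgroup G))) hXP
  obtain ⟨a, ha⟩ := exists_relIndex_sup Q N
  have h1 : Nat.card (Ov (le_inf le_sup_left hNR : N ≤ (N ⊔ (Q : Subgroup G)) ⊓ R) θ) ∣ s ^ a := by
    rw [← ha, ← relIndex_mul_relIndex N ((N ⊔ (Q : Subgroup G)) ⊓ R) _
      (le_inf le_sup_left hNR) inf_le_left, ← hv, mul_assoc]
    exact Dvd.intro _ rfl
  obtain ⟨b, -, hb⟩ := (Nat.dvd_prime_pow (Fact.out : s.Prime)).1 h1
  exact ⟨b, hb⟩

include hθ hX in
theorem smul_eq (y : normalizer (((N ⊔ (Q : Subgroup G)) ⊓ R : Subgroup G) : Set G))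
    (hy : (y : G) ∈ R) (ω : Ov (le_inf le_sup_left hNR : N ≤ (N ⊔ (Q : Subgroup G)) ⊓ R) θ) :
    letI := act (inv_of_overMul hX.toOverMul) (le_inf le_sup_left hNR : N ≤ (N ⊔ (Q : Subgroup G)) ⊓ R)
    y • ω = ω := by
  letI := act (inv_of_overMul hX.toOverMul) (le_inf le_sup_left hNR : N ≤ (N ⊔ (Q : Subgroup G)) ⊓ R)
  have := isPretransitive hθ hX R hNR Q
  have := finite_ov (θ := θ) (le_inf le_sup_left hNR : N ≤ (N ⊔ (Q : Subgroup G)) ⊓ R)
  obtain ⟨b, hb⟩ := exists_card_pow hθ hX R hNR Q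
  set W := (N ⊔ (Q : Subgroup G)) ⊓ R with hWdef
  have hWR : W ≤ R := inf_le_right
  refine smul_eq_of_not_dvd (Fact.out : s.Prime) hb (R.subgroupOf (normalizer (W : Set G)))
    (W.subgroupOf (normalizer (W : Set G))) (comap_mono hWR) ?_ ?_ hy ω
  · intro w hw ψ
    apply Subtype.ext
    funext k
    have hk : (w : G)⁻¹ * k * w ∈ W := W.mul_mem (W.mul_mem (W.inv_mem hw) k.2) hw
    rw [smul_coe _ _ _ _ k ⟨_, hk⟩ rfl]
    have h1 := isIrr_isClassFunction ψ.2.irr k (⟨(w : G), hw⟩⁻¹ : W)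
    rw [← h1]
    refine congrArg ψ.1 (Subtype.ext ?_)
    simp
  · intro hdvd
    apply not_dvd_relIndex_inf Q N R
    rw [← hWdef]
    have h1 : (W.subgroupOf (normalizer (W : Set G))).relIndex
        (R.subgroupOf (normalizer (W : Set G))) = W.relIndex (R ⊓ normalizer (W : Set G)) := by
      rw [← inf_subgroupOf_right R, relIndex_subgroupOf inf_le_right]
    rw [h1] at hdvd
    apply hdvd.trans
    rw [← relIndex_mul_relIndex W (R ⊓ normalizer (W : Set G)) R (le_inf hWR le_normalizer)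
      inf_le_left]
    exact Dvd.intro _ rfl

/-- The homomorphism from the normalizer to the quotient. -/
def toQ (W R : Subgroup G) [R.Normal] : normalizer (W : Set G) →* G ⧸ R :=
  (QuotientGroup.mk' R).comp (normalizer (W : Set G)).subtype

omit [Finite G] in
theorem mem_ker_toQ (W R : Subgroup G) [R.Normal] (y : normalizer (W : Set G)) :
    y ∈ (toQ W R).ker ↔ (y : G) ∈ R := by
  rw [MonoidHom.mem_ker]
  exact QuotientGroup.eq_one_iff _

omit [Finite G] in
theorem toQ_surjective (W R : Subgroup G) [R.Normal] (h : normalizer (W : Set G) ⊔ R = ⊤) :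
    Function.Surjective (toQ W R) := by
  intro x
  obtain ⟨g, rfl⟩ := QuotientGroup.mk_surjective x
  have hg : g ∈ normalizer (W : Set G) ⊔ R := by rw [h]; trivial
  obtain ⟨y, hy, r, hr, rfl⟩ := mem_sup_of_normal_right.1 hg
  refine ⟨⟨y, hy⟩, ?_⟩
  show ((y : G) : G ⧸ R) = ((y * r : G) : G ⧸ R)
  rw [QuotientGroup.eq]
  simpa using hr

include hθ hX in
/-- **Main lemma**: `G ⧸ R` has a subgroup whose index is the number of characters over `θ` of the
preimage of a Sylow `s`-subgroup of `R ⧸ N`. -/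
theorem exists_index : ∃ U : Subgroup (G ⧸ R),
    U.index = Nat.card (Ov (le_inf le_sup_left hNR : N ≤ (N ⊔ (Q : Subgroup G)) ⊓ R) θ) := by
  letI := act (inv_of_overMul hX.toOverMul) (le_inf le_sup_left hNR : N ≤ (N ⊔ (Q : Subgroup G)) ⊓ R)
  have := isPretransitive hθ hX R hNR Q
  obtain ⟨XP, hXP⟩ := exists_fullRam_sylow hθ hX Q
  obtain ⟨φ, hφ⟩ := exists_overMul
    (j := inclusion (le_inf le_sup_left hNR : N ≤ (N ⊔ (Q : Subgroup G)) ⊓ R))
    (inclusion (inf_le_left : (N ⊔ (Q : Subgroup G)) ⊓ R ≤ N ⊔ (Q : Subgroup G))) hθ (X := XP)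
    hXP.toOverMul
  let ω : Ov (le_inf le_sup_left hNR : N ≤ (N ⊔ (Q : Subgroup G)) ⊓ R) θ := ⟨φ, hφ⟩
  have hsurj := toQ_surjective ((N ⊔ (Q : Subgroup G)) ⊓ R) R (frattini Q N R hNR)
  refine ⟨(MulAction.stabilizer _ ω).map (toQ ((N ⊔ (Q : Subgroup G)) ⊓ R) R), ?_⟩
  have hle : (toQ ((N ⊔ (Q : Subgroup G)) ⊓ R) R).ker ≤ MulAction.stabilizer _ ω := by
    intro y hy
    rw [mem_ker_toQ] at hy
    rw [MulAction.mem_stabilizer_iff]
    exact smul_eq hθ hX R hNR Q y hy ω
  rw [index_map, MonoidHom.range_eq_top.2 hsurj, index_top, mul_one,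
    sup_eq_left.2 hle, MulAction.index_stabilizer_of_transitive]

end star

end Cfsg.Agent.H622.Star
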